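import Mathlib.RingTheory.Polynomial.Resultant.Basic
import Mathlib.Data.Fintype.BigOperators
import Mathlib.Algebra.BigOperators.Fin
import Mathlib.GroupTheory.Coset.Card
import Mathlib.Algebra.Polynomial.Degree.SmallDegree
import Mathlib.Algebra.Polynomial.Div
import Mathlib.SetTheory.Cardinal.Finite
import Mathlib.Tactic.LinearCombination

/-!
# Counting pairs with nonzero resultant in formal degrees `(2, n)`
-/

universe u

namespace Groth.Agent.ResHypLib

open Polynomial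

variable {F : Type u} [Field F] {n : ℕ}

/-- The polynomial of a coefficient vector. -/
noncomputable def pol (h : Fin (n + 1) → F) : F[X] := ∑ j : Fin (n + 1), C (h j) * X ^ (j : ℕ)

lemma natDegree_pol (h : Fin (n + 1) → F) : (pol h).natDegree ≤ n :=
  natDegree_sum_le_of_forall_le _ _ fun j _ =>
    (natDegree_C_mul_X_pow_le _ _).trans (Nat.lt_succ_iff.1 j.2)

lemma coeff_pol (h : Fin (n + 1) → F) (j : Fin (n + 1)) : (pol h).coeff j = h j := by
  simp [pol, coeff_C_mul, coeff_X_pow, Fin.val_inj]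

lemma pol_add (h h' : Fin (n + 1) → F) : pol (h + h') = pol h + pol h' := by
  simp [pol, add_mul, Finset.sum_add_distrib]

lemma pol_surj {p : F[X]} (hp : p.natDegree ≤ n) : ∃ h : Fin (n + 1) → F, pol h = p := by
  refine ⟨fun j => p.coeff j, ext fun i => ?_⟩
  by_cases hi : i ≤ n
  · exact coeff_pol (fun j : Fin (n + 1) => p.coeff j) ⟨i, by omega⟩
  · rw [coeff_eq_zero_of_natDegree_lt (by have := natDegree_pol (fun j : Fin (n + 1) => p.coeff j); omega),
      coeff_eq_zero_of_natDegree_lt (by omega)]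

/-- The monic quadratic. -/
noncomputable def quad (b c : F) : F[X] := X ^ 2 + C b * X + C c

lemma monic_quad (b c : F) : (quad b c).Monic := by
  rw [quad, add_assoc]
  exact monic_X_pow_add ((degree_linear_le).trans_lt (by decide))

lemma natDegree_quad (b c : F) : (quad b c).natDegree = 2 := by
  simpa [quad] using natDegree_quadratic (a := (1 : F)) (b := b) (c := c) one_ne_zero

lemma coeff_two_quad (b c : F) : (quad b c).coeff 2 = 1 := by
  simp [quad]

lemma resultant_quad_linear (b c u v : F) :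
    resultant (quad b c) (C v * X + C u) 2 1 = u ^ 2 - b * (u * v) + c * v ^ 2 := by
  rcases eq_or_ne v 0 with rfl | hv
  · rw [map_zero, zero_mul, zero_add, resultant_C_right, coeff_two_quad]
    ring
  · have : C v * X + C u = C v * (X + C (u / v)) := by
      rw [mul_add, ← map_mul, mul_div_cancel₀ _ hv]
    rw [this, resultant_C_mul_right, resultant_X_add_C_right _ _ _ (natDegree_quad b c).le]
    simp [quad]
    field_simp
    ring

lemma resultant_quad (b c : F) (hn : 2 ≤ n) (h : Fin (n + 1) → F) :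
    resultant (quad b c) (pol h) 2 n =
      (pol h %ₘ quad b c).coeff 0 ^ 2
        - b * ((pol h %ₘ quad b c).coeff 0 * (pol h %ₘ quad b c).coeff 1)
        + c * (pol h %ₘ quad b c).coeff 1 ^ 2 := by
  have hr : (pol h %ₘ quad b c).natDegree ≤ 1 := by
    have := natDegree_modByMonic_lt (pol h) (monic_quad b c) (fun e => by
      have := natDegree_quad b c; rw [e] at this; simp at this)
    rw [natDegree_quad] at this
    omega
  have hd : (pol h /ₘ quad b c).natDegree + 2 ≤ n := by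
    rw [natDegree_divByMonic _ (monic_quad b c), natDegree_quad]
    have := natDegree_pol h
    omega
  conv_lhs => rw [← modByMonic_add_div (pol h) (quad b c)]
  rw [resultant_add_mul_right _ _ _ _ _ hd (natDegree_quad b c).le]
  obtain ⟨k, rfl⟩ : ∃ k, n = 1 + k := ⟨n - 1, by omega⟩
  rw [resultant_add_right_deg _ _ _ _ _ hr, coeff_two_quad, one_pow, one_mul]
  conv_lhs => rw [eq_X_add_C_of_natDegree_le_one hr]
  exact resultant_quad_linear b c _ _

/-- The resultant of a quadratic form and a form of degree `n`. -/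
noncomputable def res (a₀ a₁ a₂ : F) (h : Fin (n + 1) → F) : F :=
  resultant (C a₀ + C a₁ * X + C a₂ * X ^ 2) (pol h) 2 n

lemma res_quad (a₂ b c : F) (hn : 2 ≤ n) (h : Fin (n + 1) → F) :
    res (a₂ * c) (a₂ * b) a₂ h = a₂ ^ n * ((pol h %ₘ quad b c).coeff 0 ^ 2
        - b * ((pol h %ₘ quad b c).coeff 0 * (pol h %ₘ quad b c).coeff 1)
        + c * (pol h %ₘ quad b c).coeff 1 ^ 2) := by
  rw [← resultant_quad b c hn, ← resultant_C_mul_left, res]
  congr 1
  simp only [quad, map_mul]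
  ring

lemma res_linear (a₀ a₁ : F) (ha : a₁ ≠ 0) (h : Fin (n + 1) → F) :
    res a₀ a₁ 0 h = (-1) ^ n * (pol h).coeff n * (a₁ ^ n * (pol h).eval (-(a₀ / a₁))) := by
  have : C a₀ + C a₁ * X + C (0 : F) * X ^ 2 = C a₁ * (X + C (a₀ / a₁)) := by
    rw [mul_add, ← map_mul, mul_div_cancel₀ _ ha, map_zero, zero_mul, add_zero, add_comm]
  rw [res, this, resultant_succ_left_deg _ _ _ _ ((natDegree_C_mul_le _ _).trans (natDegree_X_add_C _).le),
    resultant_C_mul_left, resultant_X_add_C_left _ _ _ (natDegree_pol h)]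

lemma res_const (a₀ : F) (h : Fin (n + 1) → F) :
    res a₀ 0 0 h = (pol h).coeff n ^ 2 * a₀ ^ n := by
  have : C a₀ + C (0 : F) * X + C (0 : F) * X ^ 2 = C a₀ := by simp
  rw [res, this, resultant_C_left]
  simp [pow_mul]

/-- All fibres of a surjective homomorphism have the same size. -/
lemma card_preimage {A B : Type u} [AddCommGroup A] [Finite A] [AddCommGroup B] (f : A →+ B)
    (hf : Function.Surjective f) (P : B → Prop) :
    Nat.card {x // P (f x)} * Nat.card B = Nat.card A * Nat.card {y // P y} := by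
  have e : {x // P (f x)} ≃ {y // P y} × f.ker :=
    { toFun := fun x => (⟨f x.1, x.2⟩, ⟨x.1 - Function.surjInv hf (f x.1), by
        simp [AddMonoidHom.mem_ker, Function.surjInv_eq hf]⟩)
      invFun := fun p => ⟨Function.surjInv hf p.1.1 + p.2.1, by
        have := AddMonoidHom.mem_ker.1 p.2.2
        simpa [map_add, Function.surjInv_eq hf, this] using p.1.2⟩
      left_inv := fun x => by simp
      right_inv := fun p => by
        have := AddMonoidHom.mem_ker.1 p.2.2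
        refine Prod.ext (Subtype.ext ?_) (Subtype.ext ?_) <;>
          simp [map_add, Function.surjInv_eq hf, this] }
  rw [Nat.card_congr e, Nat.card_prod, AddSubgroup.card_eq_card_quotient_mul_card_addSubgroup f.ker,
    Nat.card_congr (QuotientAddGroup.quotientKerEquivOfSurjective f hf).toEquiv]
  ring

variable [Fintype F]

lemma card_fibre (P : F × F → Prop) (f : (Fin (n + 1) → F) →+ F × F) (hf : Function.Surjective f)
    (hn : 2 ≤ n) (Q : (Fin (n + 1) → F) → Prop) (hQ : ∀ h, Q h ↔ P (f h)) :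
    Nat.card {h // Q h} = Fintype.card F ^ (n - 1) * Nat.card {w // P w} := by
  rw [Nat.card_congr (Equiv.subtypeEquivRight hQ)]
  have h := card_preimage f hf P
  rw [Nat.card_prod, Nat.card_fun, Nat.card_eq_fintype_card (α := F), Nat.card_eq_fintype_card (α := Fin (n + 1)),
    Fintype.card_fin] at h
  obtain ⟨k, rfl⟩ : ∃ k, n = k + 1 := ⟨n - 1, by omega⟩
  refine Nat.eq_of_mul_eq_mul_right (Nat.mul_pos Fintype.card_pos Fintype.card_pos) (h.trans ?_)
  rw [Nat.add_sub_cancel]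
  ring

variable (F) in
lemma card_quad_nonzero :
    Nat.card {p : (F × F) × (F × F) // p.2.1 ^ 2 - p.1.1 * (p.2.1 * p.2.2) + p.1.2 * p.2.2 ^ 2 ≠ 0} =
      Fintype.card F ^ 4 - Fintype.card F ^ 3 := by
  classical
  have e : {p : (F × F) × (F × F) // p.2.1 ^ 2 - p.1.1 * (p.2.1 * p.2.2) + p.1.2 * p.2.2 ^ 2 = 0} ≃
      F × F × F :=
    { toFun := fun p => (p.1.1.1, if p.1.2.2 = 0 then p.1.1.2 else p.1.2.1, p.1.2.2)
      invFun := fun t => if ht : t.2.2 = 0 then ⟨((t.1, t.2.1), (0, 0)), by simp⟩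
        else ⟨((t.1, (t.1 * (t.2.1 * t.2.2) - t.2.1 ^ 2) / t.2.2 ^ 2), (t.2.1, t.2.2)), by
          simp [div_mul_cancel₀ _ (pow_ne_zero 2 ht)]⟩
      left_inv := fun p => by
        obtain ⟨⟨⟨b, c⟩, u, v⟩, hp⟩ := p
        by_cases hv : v = 0
        · subst hv
          have hu : u = 0 := by simpa using hp
          subst hu
          simp
        · simp only [hv, if_false, dite_false]
          simp only at hp
          refine Subtype.ext (Prod.ext (Prod.ext rfl ?_) rfl)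
          rw [div_eq_iff (pow_ne_zero 2 hv)]
          linear_combination -hp
      right_inv := fun t => by
        obtain ⟨b, s, v⟩ := t
        by_cases hv : v = 0 <;> simp [hv] }
  rw [Nat.card_eq_fintype_card, Fintype.card_subtype_compl, Fintype.card_congr e]
  simp only [Fintype.card_prod]
  ring_nf

/-- The count. -/
noncomputable def N (n : ℕ) (a₀ a₁ a₂ : F) : ℕ := Nat.card {h : Fin (n + 1) → F // res a₀ a₁ a₂ h ≠ 0}

lemma N_quad (hn : 2 ≤ n) {a₂ : F} (ha : a₂ ≠ 0) (b c : F) :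
    N n (a₂ * c) (a₂ * b) a₂ = Fintype.card F ^ (n - 1) *
      Nat.card {w : F × F // w.1 ^ 2 - b * (w.1 * w.2) + c * w.2 ^ 2 ≠ 0} := by
  refine card_fibre _ (AddMonoidHom.mk' (fun h => ((pol h %ₘ quad b c).coeff 0, (pol h %ₘ quad b c).coeff 1))
    fun h h' => by simp [pol_add, add_modByMonic]) ?_ hn _ fun h => ?_
  · rintro ⟨u, v⟩
    obtain ⟨h, hh⟩ := pol_surj (n := n) (p := C v * X + C u) (natDegree_linear_le.trans (by omega))
    refine ⟨h, ?_⟩
    have : (C v * X + C u) %ₘ quad b c = C v * X + C u := by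
      rw [modByMonic_eq_self_iff (monic_quad b c), degree_eq_natDegree (monic_quad b c).ne_zero, natDegree_quad]
      exact degree_linear_le.trans_lt (by decide)
    simp [hh, this]
  · rw [res_quad _ _ _ hn]
    simp [ha]

lemma N_linear (hn : 2 ≤ n) (a₀ : F) {a₁ : F} (ha : a₁ ≠ 0) :
    N n a₀ a₁ 0 = Fintype.card F ^ (n - 1) * Nat.card {w : F × F // w.1 ≠ 0 ∧ w.2 ≠ 0} := by
  refine card_fibre _ (AddMonoidHom.mk' (fun h => ((pol h).coeff n, (pol h).eval (-(a₀ / a₁))))
    fun h h' => by simp [pol_add]) ?_ hn _ fun h => ?_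
  · rintro ⟨w, v⟩
    obtain ⟨h, hh⟩ := pol_surj (n := n) (p := C w * X ^ n + C (v - w * (-(a₀ / a₁)) ^ n))
      (natDegree_add_le_of_degree_le (natDegree_C_mul_X_pow_le _ _) ((natDegree_C _).le.trans (Nat.zero_le _)))
    refine ⟨h, ?_⟩
    refine Prod.ext ?_ ?_
    · show (pol h).coeff n = w
      rw [hh, coeff_add, coeff_C_mul, coeff_X_pow_self, coeff_C, if_neg (by omega), mul_one, add_zero]
    · show (pol h).eval (-(a₀ / a₁)) = v
      rw [hh, eval_add, eval_mul, eval_C, eval_pow, eval_X, eval_C]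
      ring
  · rw [res_linear _ _ ha]
    simp [ha]

lemma N_const (hn : 2 ≤ n) {a₀ : F} (ha : a₀ ≠ 0) :
    N n a₀ 0 0 = Fintype.card F ^ (n - 1) * Nat.card {w : F × F // w.1 ≠ 0} := by
  refine card_fibre _ (AddMonoidHom.mk' (fun h => ((pol h).coeff n, (pol h).coeff 0))
    fun h h' => by simp [pol_add]) ?_ hn _ fun h => ?_
  · rintro ⟨w, v⟩
    obtain ⟨h, hh⟩ := pol_surj (n := n) (p := C w * X ^ n + C v)
      (natDegree_add_le_of_degree_le (natDegree_C_mul_X_pow_le _ _) (by simp))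
    refine ⟨h, ?_⟩
    simp [hh, coeff_C, coeff_X_pow, show n ≠ 0 by omega, (show n ≠ 0 by omega).symm]
  · rw [res_const]
    simp [ha]

lemma N_zero (hn : 2 ≤ n) : N n (0 : F) 0 0 = 0 := by
  have : ∀ h : Fin (n + 1) → F, res 0 0 0 h = 0 := fun h => by
    rw [res_const, zero_pow (show n ≠ 0 by omega), mul_zero]
  simp [N, this]

variable (F) in
lemma card_ne_zero : Nat.card {x : F // x ≠ 0} = Fintype.card F - 1 := by
  classical
  rw [Nat.card_eq_fintype_card, Fintype.card_subtype_compl, Fintype.card_subtype_eq]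

theorem sum_N (hn : 2 ≤ n) :
    ∑ a₂ : F, ∑ a₁ : F, ∑ a₀ : F, N n a₀ a₁ a₂ =
      Fintype.card F ^ (n + 1) * (Fintype.card F - 1) ^ 2 * (Fintype.card F + 1) := by
  classical
  let S : Finset F := Finset.univ.erase 0
  have hS : S.card = Fintype.card F - 1 := by simp [S]
  have hq : ∀ a₂ ∈ S, ∑ a₁ : F, ∑ a₀ : F, N n a₀ a₁ a₂ =
      Fintype.card F ^ (n - 1) * (Fintype.card F ^ 4 - Fintype.card F ^ 3) := fun a₂ ha => by
    have ha' : a₂ ≠ 0 := Finset.ne_of_mem_erase ha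
    rw [← Equiv.sum_comp (Equiv.mulLeft₀ a₂ ha'),
      Finset.sum_congr rfl fun b _ => (Equiv.sum_comp (Equiv.mulLeft₀ a₂ ha') (fun a₀ => N n a₀ _ a₂)).symm]
    simp only [Equiv.mulLeft₀_apply, N_quad hn ha', ← Finset.mul_sum]
    congr 1
    rw [← Fintype.sum_prod_type', ← Nat.card_sigma, ← card_quad_nonzero]
    exact Nat.card_congr
      { toFun := fun x => ⟨(x.1, x.2.1), x.2.2⟩
        invFun := fun p => ⟨p.1.1, p.1.2, p.2⟩
        left_inv := fun _ => rfl
        right_inv := fun _ => rfl }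
  have hl : ∀ a₁ ∈ S, ∑ a₀ : F, N n a₀ a₁ 0 =
      Fintype.card F * (Fintype.card F ^ (n - 1) * ((Fintype.card F - 1) * (Fintype.card F - 1))) := fun a₁ ha => by
    rw [Finset.sum_congr rfl fun a₀ _ => N_linear hn a₀ (Finset.ne_of_mem_erase ha), Finset.sum_const,
      Finset.card_univ, smul_eq_mul,
      Nat.card_congr (Equiv.subtypeProdEquivProd (p := fun x : F => x ≠ 0) (q := fun x : F => x ≠ 0)), Nat.card_prod,
      card_ne_zero]
  have hc : ∀ a₀ ∈ S, N n a₀ 0 0 = Fintype.card F ^ (n - 1) * ((Fintype.card F - 1) * Fintype.card F) :=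
    fun a₀ ha => by
      rw [N_const hn (Finset.ne_of_mem_erase ha)]
      congr 1
      rw [Nat.card_congr (Equiv.prodSubtypeFstEquivSubtypeProd (p := fun x : F => x ≠ 0)), Nat.card_prod,
        card_ne_zero, Nat.card_eq_fintype_card]
  rw [← Finset.add_sum_erase _ _ (Finset.mem_univ (0 : F)),
    ← Finset.add_sum_erase _ (fun a₁ => ∑ a₀ : F, N n a₀ a₁ 0) (Finset.mem_univ (0 : F)),
    ← Finset.add_sum_erase _ (fun a₀ : F => N n a₀ 0 0) (Finset.mem_univ (0 : F)), N_zero hn]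
  rw [Finset.sum_congr rfl hq, Finset.sum_congr rfl hl, Finset.sum_congr rfl hc, Finset.sum_const,
    Finset.sum_const, Finset.sum_const, hS]
  obtain ⟨r, hr⟩ : ∃ r, Fintype.card F = r + 1 := ⟨Fintype.card F - 1, by have := Fintype.card_pos (α := F); omega⟩
  obtain ⟨k, rfl⟩ : ∃ k, n = k + 1 := ⟨n - 1, by omega⟩
  have h4 : (r + 1) ^ 4 - (r + 1) ^ 3 = (r + 1) ^ 3 * r := by
    rw [pow_succ (r + 1) 3, Nat.mul_add, Nat.mul_one, Nat.add_sub_cancel]
  simp only [hr, Nat.add_sub_cancel, h4, smul_eq_mul]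
  ring

lemma res_vec (a : Fin 3 → F) (h : Fin (n + 1) → F) :
    resultant (∑ i : Fin 3, C (a i) * X ^ (i : ℕ)) (pol h) 2 n = res (a 0) (a 1) (a 2) h := by
  rw [res, Fin.sum_univ_three]
  show resultant (C (a 0) * X ^ 0 + C (a 1) * X ^ 1 + C (a 2) * X ^ 2) (pol h) 2 n = _
  rw [pow_zero, mul_one, pow_one]

theorem card_res_ne_zero (hn : 2 ≤ n) :
    Nat.card {p : (Fin 3 → F) × (Fin (n + 1) → F) //
      resultant (∑ i : Fin 3, C (p.1 i) * X ^ (i : ℕ)) (∑ j : Fin (n + 1), C (p.2 j) * X ^ (j : ℕ)) 2 n ≠ 0} =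
      Fintype.card F ^ (n + 1) * (Fintype.card F - 1) ^ 2 * (Fintype.card F + 1) := by
  classical
  rw [← sum_N hn]
  let e : {p : (Fin 3 → F) × (Fin (n + 1) → F) //
      resultant (∑ i : Fin 3, C (p.1 i) * X ^ (i : ℕ)) (∑ j : Fin (n + 1), C (p.2 j) * X ^ (j : ℕ)) 2 n ≠ 0} ≃
      Σ a₂ : F, Σ a₁ : F, Σ a₀ : F, {h : Fin (n + 1) → F // res a₀ a₁ a₂ h ≠ 0} :=
    { toFun := fun p => ⟨p.1.1 2, p.1.1 1, p.1.1 0, p.1.2, fun e => p.2 ((res_vec p.1.1 p.1.2).trans e)⟩
      invFun := fun s => ⟨(![s.2.2.1, s.2.1, s.1], s.2.2.2.1), fun e => s.2.2.2.2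
        ((res_vec ![s.2.2.1, s.2.1, s.1] s.2.2.2.1).symm.trans e)⟩
      left_inv := fun p => Subtype.ext (Prod.ext (funext fun i => by fin_cases i <;> rfl) rfl)
      right_inv := fun _ => rfl }
  rw [Nat.card_congr e, Nat.card_sigma]
  refine Finset.sum_congr rfl fun a₂ _ => ?_
  rw [Nat.card_sigma]
  refine Finset.sum_congr rfl fun a₁ _ => ?_
  rw [Nat.card_sigma]
  rfl

omit [Fintype F] in
/-- Scaling. -/
lemma res_smul (a : Fin 3 → F) (h : Fin (n + 1) → F) (lam mu : F) :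
    resultant (∑ i : Fin 3, C ((lam • a) i) * X ^ (i : ℕ)) (∑ j : Fin (n + 1), C ((mu • h) j) * X ^ (j : ℕ)) 2 n =
      lam ^ n * mu ^ 2 *
        resultant (∑ i : Fin 3, C (a i) * X ^ (i : ℕ)) (∑ j : Fin (n + 1), C (h j) * X ^ (j : ℕ)) 2 n := by
  rw [show (∑ i : Fin 3, C ((lam • a) i) * X ^ (i : ℕ)) = C lam * ∑ i : Fin 3, C (a i) * X ^ (i : ℕ) by
      simp [Finset.mul_sum, mul_assoc],
    show (∑ j : Fin (n + 1), C ((mu • h) j) * X ^ (j : ℕ)) = C mu * ∑ j : Fin (n + 1), C (h j) * X ^ (j : ℕ) by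
      simp [Finset.mul_sum, mul_assoc],
    resultant_C_mul_left, resultant_C_mul_right]
  ring

theorem card_res_eq_one (k : ℕ) (hk : n = 2 * k + 1) (hn : 2 ≤ n) :
    Nat.card {p : (Fin 3 → F) × (Fin (n + 1) → F) //
      resultant (∑ i : Fin 3, C (p.1 i) * X ^ (i : ℕ)) (∑ j : Fin (n + 1), C (p.2 j) * X ^ (j : ℕ)) 2 n = 1} =
      Fintype.card F ^ (n + 1) * (Fintype.card F - 1) * (Fintype.card F + 1) := by
  classical
  let R : (Fin 3 → F) × (Fin (n + 1) → F) → F := fun p =>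
    resultant (∑ i : Fin 3, C (p.1 i) * X ^ (i : ℕ)) (∑ j : Fin (n + 1), C (p.2 j) * X ^ (j : ℕ)) 2 n
  have key : ∀ (l : F), l ≠ 0 → ∀ p, R (l • p.1, (l ^ k)⁻¹ • p.2) = l * R p := fun l hl p => by
    refine (res_smul p.1 p.2 l ((l ^ k)⁻¹)).trans ?_
    congr 1
    rw [hk, inv_pow, ← pow_mul, mul_comm k 2, pow_succ' l (2 * k), mul_assoc,
      mul_inv_cancel₀ (pow_ne_zero _ hl), mul_one]
  let e : {p // R p = 1} × {l : F // l ≠ 0} ≃ {p // R p ≠ 0} :=
    { toFun := fun x => ⟨(x.2.1 • x.1.1.1, (x.2.1 ^ k)⁻¹ • x.1.1.2), by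
        rw [key _ x.2.2, x.1.2, mul_one]; exact x.2.2⟩
      invFun := fun p => ⟨⟨((R p.1)⁻¹ • p.1.1, (((R p.1)⁻¹) ^ k)⁻¹ • p.1.2), by
        rw [key _ (inv_ne_zero p.2), inv_mul_cancel₀ p.2]⟩, ⟨R p.1, p.2⟩⟩
      left_inv := fun x => by
        obtain ⟨⟨⟨a, h⟩, hx⟩, l, hl⟩ := x
        have e1 : R (l • a, (l ^ k)⁻¹ • h) = l := by rw [key l hl (a, h), hx, mul_one]
        refine Prod.ext (Subtype.ext (Prod.ext ?_ ?_)) (Subtype.ext e1)
        · show (R (l • a, (l ^ k)⁻¹ • h))⁻¹ • l • a = a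
          rw [e1, smul_smul, inv_mul_cancel₀ hl, one_smul]
        · show (((R (l • a, (l ^ k)⁻¹ • h))⁻¹) ^ k)⁻¹ • (l ^ k)⁻¹ • h = h
          rw [e1, smul_smul, inv_pow, inv_inv, mul_inv_cancel₀ (pow_ne_zero _ hl), one_smul]
      right_inv := fun p => by
        refine Subtype.ext (Prod.ext ?_ ?_)
        · show R p.1 • (R p.1)⁻¹ • p.1.1 = p.1.1
          rw [smul_smul, mul_inv_cancel₀ p.2, one_smul]
        · show (R p.1 ^ k)⁻¹ • (((R p.1)⁻¹) ^ k)⁻¹ • p.1.2 = p.1.2
          rw [smul_smul, inv_pow, inv_inv, inv_mul_cancel₀ (pow_ne_zero _ p.2), one_smul] }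
  have h := Nat.card_congr e
  rw [Nat.card_prod, card_ne_zero, card_res_ne_zero hn] at h
  refine Nat.eq_of_mul_eq_mul_right (Nat.sub_pos_of_lt Fintype.one_lt_card) (h.trans ?_)
  ring

end Groth.Agent.ResHypLib
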